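import Groth.Agent.Lib.FibModLocus10.LocFree
import Groth.Agent.Lib.RankStratum9.Basic
import Groth.Agent.Lib.FittSheaf.PullbackFP
import Groth.Agent.Lib.FlatLimit.Stage
import Groth.Agent.Lib.ConsLim.Limit

/-!
# Local freeness of a finitely presented module on a limit of schemes comes from a stage
-/

set_option autoImplicit false
set_option backward.isDefEq.respectTransparency false

universe u

open CategoryTheory Limits AlgebraicGeometry TopologicalSpace TensorProduct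

noncomputable section

namespace GrothLib.LimRank8

open GrothLib.FibModLocus10 (StalkFree AllFree)

/-- The Fitting ideals of the stalks of an inverse image. -/
theorem ideal_stalk_pullback {X Y : Scheme.{u}} (f : Y ⟶ X) (M : X.Modules) [M.IsQuasicoherent]
    (hM : CohB1.IsFT M) (y : Y) (k : ℕ) :
    Fitt.ideal (Y.presheaf.stalk y) (((Scheme.Modules.pullback f).obj M).presheaf.stalk y) k =
      (Fitt.ideal (X.presheaf.stalk (f y)) (M.presheaf.stalk (f y)) k).map (f.stalkMap y).hom := by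
  letI : Algebra (X.presheaf.stalk (f y)) (Y.presheaf.stalk y) := (f.stalkMap y).hom.toAlgebra
  let e : ((Scheme.Modules.pullback f).obj M).presheaf.stalk y ≃ₗ[Y.presheaf.stalk y]
      Y.presheaf.stalk y ⊗[X.presheaf.stalk (f y)] M.presheaf.stalk (f y) :=
    ((OX.pullStalkIso f y).app M).toLinearEquiv
  haveI := FittSheaf.finite_stalk hM (f y)
  rw [← Fitting.ideal_congr e.symm k, Fitting.ideal_baseChange]
  rfl

/-- Finitely presented modules are of finite type. -/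
theorem isFT_of_isFP {X : Scheme.{u}} (F : X.Modules) [F.IsQuasicoherent] (hF : CohB1.IsFP F) : CohB1.IsFT F :=
  (QCoh.isFiniteType_iff_moduleFinite _).2 fun U hU => by
    haveI := FlatFP.finitePresentation_sections F hF hU
    infer_instance

/-- Being free of rank `r` at a point, through Fitting ideals. -/
theorem basis_iff_ideals {R : Type u} [CommRing R] [IsLocalRing R] {M : Type u} [AddCommGroup M] [Module R M]
    [Module.Finite R M] (r : ℕ) :
    (Module.Free R M ∧ Module.finrank R M = r) ↔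
      (∀ k, k < r → Fitt.ideal R M k = ⊥) ∧ Fitt.ideal R M r = ⊤ := by
  refine ⟨fun ⟨hfree, hr⟩ => ?_, fun ⟨hlow, htop⟩ => ?_⟩
  · haveI := hfree
    let b := (Module.finBasis R M).reindex (finCongr hr)
    exact ⟨fun k hk => by rw [Fitting.ideal_of_basis b k, if_neg (by omega)],
      by rw [Fitting.ideal_of_basis b r, if_pos le_rfl]⟩
  · obtain ⟨b⟩ := RankStratum9.stalk_basis_of_ideals r hlow htop
    exact ⟨Module.Free.of_basis b, by rw [Module.finrank_eq_card_basis b, Fintype.card_fin]⟩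

/-- A function on an affine open with vanishing germ is killed by a function invertible at the point. -/
theorem exists_isUnit_mul_eq_zero {X : Scheme.{u}} {V : X.Opens} (hV : IsAffineOpen V) (x : X) (hx : x ∈ V)
    (b : Γ(X, V)) (hb : X.presheaf.germ V x hx b = 0) :
    ∃ s : Γ(X, V), IsUnit (X.presheaf.germ V x hx s) ∧ s * b = 0 := by
  letI := X.presheaf.algebra_section_stalk ⟨x, hx⟩
  haveI := FlatFP.isLocalization_stalk_primeAt hV hx
  obtain ⟨⟨s, hs⟩, hsb⟩ := (IsLocalization.map_eq_zero_iff (WeakAss.primeAt x hx).primeCompl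
    (X.presheaf.stalk x) b).mp hb
  exact ⟨s, (Scheme.mem_basicOpen _ s x hx).mp (WeakAss.notMem_primeAt_iff.mp hs), hsb⟩

/-- A local homomorphism detects the unit ideal. -/
theorem eq_top_of_map_eq_top {R S : CommRingCat.{u}} [IsLocalRing R] [IsLocalRing S] (f : R ⟶ S)
    [IsLocalHom f.hom] (J : Ideal R) (h : J.map f.hom = ⊤) : J = ⊤ := by
  by_contra hne
  have h1 : J.map f.hom ≤ IsLocalRing.maximalIdeal S :=
    Ideal.map_le_iff_le_comap.mpr fun a ha => by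
      have ha' : a ∈ IsLocalRing.maximalIdeal R := IsLocalRing.le_maximalIdeal hne ha
      rw [Ideal.mem_comap, IsLocalRing.mem_maximalIdeal, mem_nonunits_iff]
      exact fun hu => ha' (IsUnit.of_map f.hom a hu)
  rw [h] at h1
  exact (IsLocalRing.maximalIdeal.isMaximal S).ne_top (top_le_iff.mp h1)

/-- Germs of the inverse image of a function along equal morphisms. -/
theorem germ_app_congr {X Y : Scheme.{u}} {f g : Y ⟶ X} (e : f = g) {U : X.Opens} (a : Γ(X, U)) (y : Y)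
    (h : y ∈ f ⁻¹ᵁ U) :
    Y.presheaf.germ (f ⁻¹ᵁ U) y h (f.app U a) = Y.presheaf.germ (g ⁻¹ᵁ U) y (e ▸ h) (g.app U a) := by
  subst e
  rfl

theorem app_eq_map {X Y : Scheme.{u}} (f : Y ⟶ X) {W : X.Opens} {V : Y.Opens} (e : V ≤ f ⁻¹ᵁ W)
    (e' : f ⁻¹ᵁ W ≤ V) (t : Γ(X, W)) {s : Γ(Y, V)} (ht : f.appLE W V e t = s) :
    f.app W t = Y.presheaf.map (homOfLE e').op s := by
  rw [← ht, FlatLimit.appLE_restrict, Scheme.Hom.app_eq_appLE]

theorem app_app_eq_map {X Y Z : Scheme.{u}} (f : Y ⟶ X) (g : X ⟶ Z) (h : Y ⟶ Z) (w : f ≫ g = h) {U : Z.Opens}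
    (e' : f ⁻¹ᵁ (g ⁻¹ᵁ U) ≤ h ⁻¹ᵁ U) (a : Γ(Z, U)) :
    f.app (g ⁻¹ᵁ U) (g.app U a) = Y.presheaf.map (homOfLE e').op (h.app U a) := by
  subst w
  show _ = Y.presheaf.map (𝟙 _) _
  rw [Y.presheaf.map_id]
  rfl

theorem germ_appLE_eq {X Y : Scheme.{u}} (f : Y ⟶ X) {W : X.Opens} {V : Y.Opens} (e : V ≤ f ⁻¹ᵁ W)
    (y : Y) (hy : y ∈ V) (t : Γ(X, W)) :
    Y.presheaf.germ V y hy (f.appLE W V e t) = Y.presheaf.germ (f ⁻¹ᵁ W) y (e hy) (f.app W t) :=
  TopCat.Presheaf.germ_res_apply Y.presheaf (homOfLE e) y hy _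

variable {I : Type u} [SmallCategory I] [IsCofiltered I] (D : I ⥤ Scheme.{u}) (c : Cone D)
  (hc : IsLimit c) [∀ (i j : I) (f : i ⟶ j), IsAffineHom (D.map f)] (i₀ : I)

include hc in
/-- A function on an affine open with vanishing germ at a point of the limit has vanishing germ at a stage. -/
theorem exists_stage_germ_eq_zero {U : (D.obj i₀).Opens} (hU : IsAffineOpen U) (x : c.pt)
    (hx : c.π.app i₀ x ∈ U) (a : Γ(D.obj i₀, U))
    (ha : c.pt.presheaf.germ (c.π.app i₀ ⁻¹ᵁ U) x hx ((c.π.app i₀).app U a) = 0) :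
    ∃ (j : I) (φ : j ⟶ i₀) (hxj : c.π.app j x ∈ D.map φ ⁻¹ᵁ U),
      (D.obj j).presheaf.germ (D.map φ ⁻¹ᵁ U) (c.π.app j x) hxj ((D.map φ).app U a) = 0 := by
  haveI := isAffineHom_π_app D c hc i₀
  have hV : IsAffineOpen (c.π.app i₀ ⁻¹ᵁ U) := hU.preimage _
  obtain ⟨s, hs, hsa⟩ := exists_isUnit_mul_eq_zero hV x hx _ ha
  obtain ⟨k, ψ, e, t, ht⟩ := FlatLimit.exists_appLE_π_eq D c hc hU s
  have hxk : c.π.app k x ∈ D.map ψ ⁻¹ᵁ U := e hx
  have hzero : (c.π.app k).app (D.map ψ ⁻¹ᵁ U) (t * (D.map ψ).app U a) = 0 := by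
    have e' : c.π.app k ⁻¹ᵁ (D.map ψ ⁻¹ᵁ U) ≤ c.π.app i₀ ⁻¹ᵁ U := by
      rw [← Scheme.Hom.comp_preimage, c.w]
    have h := congrArg (c.pt.presheaf.map (homOfLE e').op) (hsa : s * (c.π.app i₀).app U a = 0)
    rw [map_zero, map_mul] at h
    rw [map_mul]
    exact Eq.trans (congrArg₂ (· * ·) (app_eq_map (c.π.app k) e e' t ht) (app_app_eq_map _ _ _ (c.w ψ) e' a)) h
  have hc' : IsCompact ((D.map ψ ⁻¹ᵁ U : (D.obj k).Opens) : Set (D.obj k)) := (hU.preimage _).isCompact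
  obtain ⟨l, χ, hl⟩ := exists_app_map_eq_zero_of_isLimit D c hc hc' _ hzero
  have hxl : c.π.app l x ∈ D.map χ ⁻¹ᵁ (D.map ψ ⁻¹ᵁ U) := by
    show D.map χ (c.π.app l x) ∈ D.map ψ ⁻¹ᵁ U
    rw [← Scheme.Hom.comp_apply, c.w]
    exact hxk
  have hxl' : c.π.app l x ∈ D.map (χ ≫ ψ) ⁻¹ᵁ U := by rw [D.map_comp]; exact hxl
  refine ⟨l, χ ≫ ψ, hxl', ?_⟩
  have h2 := congrArg ((D.obj l).presheaf.germ _ _ hxl) hl
  rw [map_zero, map_mul, map_mul] at h2
  have hu : IsUnit ((D.obj l).presheaf.germ _ _ hxl ((D.map χ).app _ t)) := by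
    refine IsUnit.of_map ((c.π.app l).stalkMap x).hom _ ?_
    rw [Scheme.Hom.germ_stalkMap_apply]
    have h4 : IsUnit (c.pt.presheaf.germ (c.π.app k ⁻¹ᵁ (D.map ψ ⁻¹ᵁ U)) x hxk ((c.π.app k).app _ t)) := by
      rw [← ht] at hs
      exact (germ_appLE_eq (c.π.app k) e x hx t) ▸ hs
    exact (germ_app_congr (c.w χ).symm t x hxk) ▸ h4
  have h3 : (D.obj l).presheaf.germ _ _ hxl ((D.map χ).app _ ((D.map ψ).app U a)) = 0 :=
    hu.mul_right_eq_zero.mp h2
  exact (germ_app_congr (D.map_comp χ ψ) a _ hxl').trans h3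

omit [IsCofiltered I] [∀ (i j : I) (f : i ⟶ j), IsAffineHom (D.map f)] in
theorem germ_eq_zero_of_le {U : (D.obj i₀).Opens} (a : Γ(D.obj i₀, U)) (x : c.pt) {j l : I} (φ : j ⟶ i₀)
    (ρ : l ⟶ i₀) (t : l ⟶ j) (ht : t ≫ φ = ρ) (hxj : c.π.app j x ∈ D.map φ ⁻¹ᵁ U)
    (h : (D.obj j).presheaf.germ (D.map φ ⁻¹ᵁ U) (c.π.app j x) hxj ((D.map φ).app U a) = 0) :
    ∃ hxl : c.π.app l x ∈ D.map ρ ⁻¹ᵁ U,
      (D.obj l).presheaf.germ (D.map ρ ⁻¹ᵁ U) (c.π.app l x) hxl ((D.map ρ).app U a) = 0 := by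
  subst ht
  have e : D.map t (c.π.app l x) = c.π.app j x := by
    rw [← Scheme.Hom.comp_apply, c.w]; rfl
  have hxl : c.π.app l x ∈ D.map t ⁻¹ᵁ (D.map φ ⁻¹ᵁ U) := by
    show D.map t (c.π.app l x) ∈ D.map φ ⁻¹ᵁ U
    rw [e]
    exact hxj
  refine ⟨by rw [D.map_comp]; exact hxl, ?_⟩
  have h' : ∀ (y : D.obj j) (_ : c.π.app j x = y) (hy : y ∈ D.map φ ⁻¹ᵁ U),
      (D.obj j).presheaf.germ (D.map φ ⁻¹ᵁ U) y hy ((D.map φ).app U a) = 0 := by
    rintro y rfl hy
    exact h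
  have h2 := congrArg ((D.map t).stalkMap (c.π.app l x)) (h' _ e.symm hxl)
  rw [map_zero, Scheme.Hom.germ_stalkMap_apply] at h2
  exact (germ_app_congr (D.map_comp t φ) a _ _).trans h2

include hc in
/-- Finitely many functions at once. -/
theorem exists_stage_germ_eq_zero_finset {U : (D.obj i₀).Opens} (hU : IsAffineOpen U) (x : c.pt)
    (hx : c.π.app i₀ x ∈ U) (T : Finset Γ(D.obj i₀, U))
    (hT : ∀ a ∈ T, c.pt.presheaf.germ (c.π.app i₀ ⁻¹ᵁ U) x hx ((c.π.app i₀).app U a) = 0) :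
    ∃ (j : I) (φ : j ⟶ i₀) (hxj : c.π.app j x ∈ D.map φ ⁻¹ᵁ U), ∀ a ∈ T,
      (D.obj j).presheaf.germ (D.map φ ⁻¹ᵁ U) (c.π.app j x) hxj ((D.map φ).app U a) = 0 := by
  classical
  induction T using Finset.induction_on with
  | empty =>
    refine ⟨i₀, 𝟙 i₀, ?_, fun a ha => absurd ha (Finset.notMem_empty a)⟩
    rw [D.map_id]
    exact hx
  | insert a T _ ih =>
    obtain ⟨j, φ, hxj, h⟩ := ih fun b hb => hT b (Finset.mem_insert_of_mem hb)
    obtain ⟨k, ψ, hxk, hk⟩ := exists_stage_germ_eq_zero D c hc i₀ hU x hx a (hT a (Finset.mem_insert_self a T))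
    let l := IsCofiltered.min (Over.mk φ) (Over.mk ψ)
    let l₁ := IsCofiltered.minToLeft (Over.mk φ) (Over.mk ψ)
    let l₂ := IsCofiltered.minToRight (Over.mk φ) (Over.mk ψ)
    obtain ⟨hxl, hl⟩ := germ_eq_zero_of_le D c i₀ a x ψ l.hom l₂.left (Over.w l₂) hxk hk
    refine ⟨l.left, l.hom, hxl, fun b hb => ?_⟩
    rcases Finset.mem_insert.1 hb with rfl | hb'
    · exact hl
    · obtain ⟨_, h'⟩ := germ_eq_zero_of_le D c i₀ b x φ l.hom l₁.left (Over.w l₁) hxj (h b hb')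
      exact h'

omit [IsCofiltered I] in
theorem map_germ_fitt {X Y : Scheme.{u}} (f : Y ⟶ X) (M : X.Modules) [M.IsQuasicoherent] (hM : CohB1.IsFT M)
    (U : X.affineOpens) (y : Y) (hy : y ∈ f ⁻¹ᵁ U.1) (k : ℕ) :
    Fitt.ideal (Y.presheaf.stalk y) (((Scheme.Modules.pullback f).obj M).presheaf.stalk y) k =
      ((Fitt.sheafIdeal M k).ideal U).map ((f.app U.1 ≫ Y.presheaf.germ (f ⁻¹ᵁ U.1) y hy).hom) := by
  rw [ideal_stalk_pullback f M hM y k, ← FittSheaf.map_germ_sheafIdeal hM k U (show f y ∈ U.1 from hy),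
    Ideal.map_map, ← CommRingCat.hom_comp, Scheme.Hom.germ_stalkMap]

include hc in
/-- Freeness at a point of the limit comes from a stage. -/
theorem exists_stage_stalkFree (R : Set ℕ) (F₀ : (D.obj i₀).Modules) [F₀.IsQuasicoherent]
    (hF₀ : CohB1.IsFP F₀) (hF₀' : CohB1.IsFT F₀) (x : c.pt)
    (h : StalkFree R ((Scheme.Modules.pullback (c.π.app i₀)).obj F₀) x) :
    ∃ (j : I) (φ : j ⟶ i₀), StalkFree R ((Scheme.Modules.pullback (D.map φ)).obj F₀) (c.π.app j x) := by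
  classical
  let r := Module.finrank (c.pt.presheaf.stalk x) (((Scheme.Modules.pullback (c.π.app i₀)).obj F₀).presheaf.stalk x)
  haveI := FittSheaf.isQuasicoherent_pullback (c.π.app i₀) F₀
  haveI := FittSheaf.finite_stalk (RankStratum9.isFT_pullback (c.π.app i₀) F₀ hF₀') x
  obtain ⟨hlow, htop⟩ := (basis_iff_ideals r).mp ⟨h.1, rfl⟩
  obtain ⟨U, hU, hxU, -⟩ := exists_isAffineOpen_mem_and_subset (x := c.π.app i₀ x) (U := ⊤) trivial
  haveI := FlatFP.finitePresentation_sections F₀ hF₀ hU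
  have hfg : ∀ k, ((Fitt.sheafIdeal F₀ k).ideal ⟨U, hU⟩).FG := fun k => by
    rw [FittSheaf.sheafIdeal_ideal hF₀']
    exact Fitting.ideal_fg k
  choose S hS using hfg
  obtain ⟨j, φ, hxj, hj⟩ := exists_stage_germ_eq_zero_finset D c hc i₀ hU x hxU ((Finset.range r).biUnion S)
    fun a ha => by
      obtain ⟨k, hk, hak⟩ := Finset.mem_biUnion.1 ha
      have h1 := hlow k (Finset.mem_range.1 hk)
      rw [map_germ_fitt (c.π.app i₀) F₀ hF₀' ⟨U, hU⟩ x hxU k, ← hS k, Ideal.map_span, Ideal.span_eq_bot] at h1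
      exact h1 _ ⟨a, hak, rfl⟩
  refine ⟨j, φ, ?_⟩
  haveI := FittSheaf.isQuasicoherent_pullback (D.map φ) F₀
  haveI := FittSheaf.finite_stalk (RankStratum9.isFT_pullback (D.map φ) F₀ hF₀') (c.π.app j x)
  obtain ⟨hf, hr⟩ := (basis_iff_ideals (R := (D.obj j).presheaf.stalk (c.π.app j x))
    (M := ((Scheme.Modules.pullback (D.map φ)).obj F₀).presheaf.stalk (c.π.app j x)) r).mpr
    ⟨fun k hk => by
      rw [map_germ_fitt (D.map φ) F₀ hF₀' ⟨U, hU⟩ _ hxj k, ← hS k, Ideal.map_span, Ideal.span_eq_bot]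
      rintro _ ⟨a, ha, rfl⟩
      exact hj a (Finset.mem_biUnion.2 ⟨k, Finset.mem_range.2 hk, ha⟩), by
      have h0 : Fitt.ideal ((D.obj i₀).presheaf.stalk (c.π.app i₀ x))
          (F₀.presheaf.stalk (c.π.app i₀ x)) r = ⊤ := by
        refine eq_top_of_map_eq_top ((c.π.app i₀).stalkMap x) _ ?_
        exact (ideal_stalk_pullback (c.π.app i₀) F₀ hF₀' x r).symm.trans htop
      rw [ideal_stalk_pullback (D.map φ) F₀ hF₀']
      have e : D.map φ (c.π.app j x) = c.π.app i₀ x := by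
        rw [← Scheme.Hom.comp_apply, c.w]; rfl
      rw [← e] at h0
      rw [h0, Ideal.map_top]⟩
  exact ⟨hf, hr ▸ h.2⟩

omit [IsCofiltered I] in
theorem allFree_pullback {Z' Z : Scheme.{u}} (R : Set ℕ) (g : Z' ⟶ Z) {G : Z.Modules}
    (h : AllFree R G) : AllFree R ((Scheme.Modules.pullback g).obj G) := fun z =>
  FibModLocus10.stalkFree_pullback g G z (h _)

include hc in
/-- Local freeness on the limit is local freeness at a stage. -/
theorem allFree_iff_eventually (R : Set ℕ) [CompactSpace (D.obj i₀)] (F₀ : (D.obj i₀).Modules)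
    [F₀.IsQuasicoherent] (hF₀ : CohB1.IsFP F₀) (hF₀' : CohB1.IsFT F₀) :
    AllFree R ((Scheme.Modules.pullback (c.π.app i₀)).obj F₀) ↔
      ∃ (j : I) (φ : j ⟶ i₀), AllFree R ((Scheme.Modules.pullback (D.map φ)).obj F₀) := by
  refine ⟨fun h => ?_, fun ⟨j, φ, h⟩ z => ?_⟩
  · let D' : Over i₀ ⥤ Scheme.{u} := Over.forget i₀ ⋙ D
    have hc' : IsLimit (c.whisker (Over.forget i₀)) :=
      (Functor.Initial.isLimitWhiskerEquiv (Over.forget i₀) c).symm hc
    haveI : ∀ (a b : Over i₀) (f : a ⟶ b), IsAffineHom (D'.map f) := fun a b f =>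
      ‹∀ (i j : I) (f : i ⟶ j), IsAffineHom (D.map f)› _ _ f.left
    haveI : CompactSpace (D'.obj (Over.mk (𝟙 i₀))) := ‹CompactSpace (D.obj i₀)›
    let F : ∀ k : Over i₀, Set (D'.obj k) := fun k =>
      {z | StalkFree R ((Scheme.Modules.pullback (D.map k.hom)).obj F₀) z}
    have hFo : ∀ k, ProCons.IsIndConstructible (F k) := fun k =>
      haveI := FittSheaf.isQuasicoherent_pullback (D.map k.hom) F₀
      Constr.isIndConstructible_of_isOpen
        (FibModLocus10.isOpen_stalkFree (FittSheaf.isFP_pullback (D.map k.hom) F₀ hF₀))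
    have hFm : ∀ (a b : Over i₀) (ψ : a ⟶ b), D'.map ψ ⁻¹' F b ⊆ F a := fun a b ψ z hz => by
      refine FibModLocus10.stalkFree_of_iso ((Scheme.Modules.pullbackComp (D.map ψ.left) (D.map b.hom)).app F₀ ≪≫
        (Scheme.Modules.pullbackCongr ?_).app F₀) (FibModLocus10.stalkFree_pullback (D.map ψ.left) _ z hz)
      rw [← D.map_comp, Over.w]
    obtain ⟨k, -, hk⟩ := ConsLim.exists_stage_subset D' _ hc' (Over.mk (𝟙 i₀)) (fun _ => Set.univ) F
      (fun k => Constr.isProConstructible_iff_compl.mpr (by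
        rw [Set.compl_univ]; exact Constr.isIndConstructible_of_isOpen isOpen_empty)) hFo
      (fun _ _ _ => Set.subset_univ _) hFm (fun x _ => by
        obtain ⟨j, φ, hj⟩ := exists_stage_stalkFree D c hc i₀ R F₀ hF₀ hF₀' x (h x)
        exact Set.mem_iUnion.2 ⟨Over.mk φ, hj⟩)
    exact ⟨k.left, k.hom, fun z => hk k (𝟙 k) (Set.mem_univ z)⟩
  · exact FibModLocus10.stalkFree_of_iso
      ((Scheme.Modules.pullbackComp (c.π.app j) (D.map φ)).app F₀ ≪≫
        (Scheme.Modules.pullbackCongr (c.w φ)).app F₀) (allFree_pullback R (c.π.app j) h z)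

end GrothLib.LimRank8
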